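import Groth.Prelude.Def_NonAbH2
import Mathlib

/-!
# Descent of morphisms along fppf-locally split morphisms; exact sequences
-/

set_option autoImplicit false
set_option backward.isDefEq.respectTransparency false
set_option synthInstance.maxHeartbeats 200000

universe u

open CategoryTheory Limits MonoidalCategory CartesianMonoidalCategory MonObj AlgebraicGeometry

namespace Groth.Agent.ExtDesc

/-- `q` has sections fppf-locally on its target. -/
def LocSplit {X Y : Scheme.{u}} (q : X ⟶ Y) : Prop :=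
  Sieve.generate (Presieve.singleton q) ∈ Scheme.fppfTopology Y

theorem locSplit_comp {X Y Z : Scheme.{u}} {q : X ⟶ Y} {r : Y ⟶ Z} (hq : LocSplit q) (hr : LocSplit r) :
    LocSplit (q ≫ r) := by
  refine Scheme.fppfTopology.transitive hr _ ?_
  rintro W f ⟨V, a, g, ⟨⟩, rfl⟩
  refine Scheme.fppfTopology.superset_covering ?_ (Scheme.fppfTopology.pullback_stable a hq)
  rintro U g' ⟨V', b, h, ⟨⟩, hb⟩
  exact ⟨_, b, q ≫ r, Presieve.singleton_self _, by rw [← Category.assoc, hb, Category.assoc]⟩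

theorem locSplit_of_isPullback {X Y X' Y' : Scheme.{u}} {q : X ⟶ Y} {q' : X' ⟶ Y'} {f' : X' ⟶ X}
    {f : Y' ⟶ Y} (h : IsPullback f' q' q f) (hq : LocSplit q) : LocSplit q' := by
  refine Scheme.fppfTopology.superset_covering ?_ (Scheme.fppfTopology.pullback_stable f hq)
  rintro U g ⟨V, b, h', ⟨⟩, hb⟩
  exact ⟨_, h.lift b g hb, q', Presieve.singleton_self _, h.lift_snd _ _ _⟩

theorem locSplit_of_isLocallyTrivialFor {X Y : Scheme.{u}} (q : X ⟶ Y)
    (h : NonAbH1.IsLocallyTrivialFor Scheme.fppfPrecoverage (Over.mk q : Over Y)) : LocSplit q := by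
  obtain ⟨R, hR, hs⟩ := h
  refine Scheme.fppfTopology.superset_covering ?_ (Precoverage.generate_mem_toGrothendieck hR)
  rintro U g ⟨V, a, f, hf, rfl⟩
  obtain ⟨s, hs'⟩ := hs f hf
  exact ⟨X, a ≫ s, q, Presieve.singleton_self q, by rw [Category.assoc]; exact congrArg (a ≫ ·) hs'⟩

theorem isSheafFor_singleton {X Y : Scheme.{u}} {q : X ⟶ Y} (hq : LocSplit q) (G : Scheme.{u}) :
    Presieve.IsSheafFor (yoneda.obj G) (Presieve.singleton q) :=
  (Presieve.isSheafFor_iff_generate _).mpr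
    ((GrothendieckTopology.Subcanonical.isSheaf_of_isRepresentable (J := Scheme.fppfTopology)
      (yoneda.obj G)) _ hq)

theorem hom_ext {X Y : Scheme.{u}} {q : X ⟶ Y} (hq : LocSplit q) {G : Scheme.{u}} {a b : Y ⟶ G}
    (h : q ≫ a = q ≫ b) : a = b :=
  (isSheafFor_singleton hq G).isSeparatedFor.ext (fun _ f hf => by cases hf; exact h)

variable {S : Scheme.{u}}

/-- Being fppf-locally split, for a morphism over `S`. -/
abbrev Cover {X Y : Over S} (q : X ⟶ Y) : Prop := LocSplit q.left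

theorem over_hom_ext {X Y G : Over S} {q : X ⟶ Y} (hq : Cover q) {a b : Y ⟶ G} (h : q ≫ a = q ≫ b) :
    a = b :=
  Over.OverMorphism.ext (hom_ext hq (congrArg (fun m => m.left) h))

theorem exists_desc {X Y G : Over S} {q : X ⟶ Y} (hq : Cover q) (f : X ⟶ G)
    (hf : ∀ (T : Over S) (a b : T ⟶ X), a ≫ q = b ≫ q → a ≫ f = b ≫ f) :
    ∃ g : Y ⟶ G, q ≫ g = f := by
  have hx : (Presieve.FamilyOfElements.Compatible
      (P := yoneda.obj G.left) (R := Presieve.singleton q.left)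
      (fun V h hh => by cases hh; exact f.left)) := by
    rintro Y₁ Y₂ Z g₁ g₂ f₁ f₂ ⟨⟩ ⟨⟩ heq
    let T : Over S := Over.mk (g₁ ≫ X.hom)
    have e : g₂ ≫ X.hom = g₁ ≫ X.hom := by
      rw [← Over.w q, ← Category.assoc, ← heq, Category.assoc]
    exact congrArg (fun m => m.left) (hf T (Over.homMk g₁ rfl) (Over.homMk g₂ e)
      (Over.OverMorphism.ext heq))
  obtain ⟨g, hg, -⟩ := isSheafFor_singleton hq G.left _ hx
  have hg' : q.left ≫ g = f.left := hg q.left (Presieve.singleton_self _)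
  refine ⟨Over.homMk g (hom_ext hq ?_), Over.OverMorphism.ext hg'⟩
  rw [← Category.assoc, hg', Over.w f, Over.w q]

theorem cover_comp {X Y Z : Over S} {q : X ⟶ Y} {r : Y ⟶ Z} (hq : Cover q) (hr : Cover r) :
    Cover (q ≫ r) :=
  locSplit_comp hq hr

theorem cover_whiskerRight {X Y : Over S} {q : X ⟶ Y} (hq : Cover q) (Z : Over S) : Cover (q ▷ Z) := by
  refine locSplit_of_isPullback (f' := (fst X Z).left) (f := (fst Y Z).left) (IsPullback.flip ?_) hq
  refine IsPullback.of_right (h₁₂ := pullback.snd Y.hom Z.hom) (v₁₃ := Z.hom) (h₂₂ := Y.hom) ?_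
    (Over.whiskerRight_left_fst q) (IsPullback.of_hasPullback Y.hom Z.hom).flip
  rw [Over.whiskerRight_left_snd, Over.w q]
  exact (IsPullback.of_hasPullback X.hom Z.hom).flip

theorem cover_whiskerLeft {X Y : Over S} {q : X ⟶ Y} (hq : Cover q) (Z : Over S) : Cover (Z ◁ q) := by
  refine locSplit_of_isPullback (f' := (snd Z X).left) (f := (snd Z Y).left) (IsPullback.flip ?_) hq
  refine IsPullback.of_right (h₁₂ := pullback.fst Z.hom Y.hom) (v₁₃ := Z.hom) (h₂₂ := Y.hom) ?_
    (Over.whiskerLeft_left_snd q) (IsPullback.of_hasPullback Z.hom Y.hom)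
  rw [Over.whiskerLeft_left_fst, Over.w q]
  exact IsPullback.of_hasPullback Z.hom X.hom

theorem cover_tensor {X Y : Over S} {q : X ⟶ Y} (hq : Cover q) : Cover (q ▷ X ≫ Y ◁ q) :=
  cover_comp (cover_whiskerRight hq X) (cover_whiskerLeft hq Y)

section Exact

variable {P G E : Over S} [GrpObj P] [GrpObj G] [GrpObj E] {u : G ⟶ E} {v : E ⟶ P}

theorem cover_of_isExactSeq (hex : NonAbH1.IsExactSeq Scheme.fppfPrecoverage u v) : Cover v :=
  locSplit_of_isLocallyTrivialFor _ hex.2.2.2.2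

theorem exists_eq_mul (hex : NonAbH1.IsExactSeq Scheme.fppfPrecoverage u v) {T : Over S} {a b : T ⟶ E}
    (h : a ≫ v = b ≫ v) : ∃ g : T ⟶ G, a * (g ≫ u) = b := by
  obtain ⟨-, -, -, hP, -⟩ := hex
  refine ⟨hP.lift a b h ≫ snd _ _, ?_⟩
  have h2 := hP.lift_snd a b h
  have h3 : (E ◁ u) ≫ μ[E] = fst E G * (snd E G ≫ u) := by
    rw [Hom.mul_def]
    congr 1
  have h4 := (congrArg (fun z => hP.lift a b h ≫ z) h3).symm.trans h2
  rw [MonObj.comp_mul, hP.lift_fst, ← Category.assoc] at h4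
  exact h4

theorem exists_of_comp_eq_one (hex : NonAbH1.IsExactSeq Scheme.fppfPrecoverage u v) {T : Over S}
    {b : T ⟶ E} (h : b ≫ v = 1) : ∃ g : T ⟶ G, g ≫ u = b := by
  haveI := hex.2.1
  obtain ⟨g, hg⟩ := exists_eq_mul hex (a := (1 : T ⟶ E)) (b := b) (by rw [h, MonObj.one_comp])
  exact ⟨g, by rw [← hg, _root_.one_mul]⟩

theorem comp_eq_one (hex : NonAbH1.IsExactSeq Scheme.fppfPrecoverage u v) {T : Over S} (g : T ⟶ G) :
    g ≫ u ≫ v = 1 := by
  rw [hex.2.2.1, MonObj.comp_one]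

theorem mul_comp_eq (hex : NonAbH1.IsExactSeq Scheme.fppfPrecoverage u v) {T : Over S} (a : T ⟶ E)
    (g : T ⟶ G) : (a * (g ≫ u)) ≫ v = a ≫ v := by
  haveI := hex.2.1
  rw [MonObj.mul_comp, Category.assoc, comp_eq_one hex, _root_.mul_one]

theorem injective_comp (hex : NonAbH1.IsExactSeq Scheme.fppfPrecoverage u v) {T : Over S} {g g' : T ⟶ G}
    (h : g ≫ u = g' ≫ u) : g = g' := by
  obtain ⟨-, -, -, hP, -⟩ := hex
  have h4 : lift (1 : T ⟶ E) g = lift 1 g' := by
    refine hP.hom_ext (by simp) ?_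
    rw [← Category.assoc, ← Category.assoc, lift_whiskerLeft, lift_whiskerLeft, h]
  simpa using congrArg (· ≫ snd _ _) h4

end Exact

end Groth.Agent.ExtDesc
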