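import Groth.Prelude.Def_TwC
import Mathlib

/-!
# Points of constant schemes
-/

set_option autoImplicit false
set_option backward.isDefEq.respectTransparency false

universe u

open CategoryTheory Limits MonoidalCategory CartesianMonoidalCategory MonObj AlgebraicGeometry

namespace Groth.Agent.ExtDesc

variable (S : Scheme.{u}) (Z : Type u)

/-- The index of a point of a constant scheme. -/
noncomputable def idx (y : ↥(TwC.const S Z).left) : Z := ((sigmaMk (fun _ : Z => S)).symm y).1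

variable {S Z}

theorem idx_ι (m : Z) (x : ↥S) : idx S Z ((Sigma.ι (fun _ : Z => S) m) x) = m := by
  rw [idx]
  erw [← sigmaMk_mk (fun _ : Z => S) m x, Homeomorph.symm_apply_apply]

theorem exists_ι (y : ↥(TwC.const S Z).left) : ∃ x : ↥S, (Sigma.ι (fun _ : Z => S) (idx S Z y)) x = y :=
  ⟨((sigmaMk (fun _ : Z => S)).symm y).2,
    (sigmaMk_mk (fun _ : Z => S) (idx S Z y) ((sigmaMk (fun _ : Z => S)).symm y).2).symm.trans
      ((sigmaMk (fun _ : Z => S)).apply_symm_apply y)⟩

theorem eq_toUnit_pt {T : Over S} (a : T ⟶ TwC.const S Z) (m : Z) (h : ∀ t, idx S Z (a.left t) = m) :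
    a = toUnit T ≫ TwC.pt S Z m := by
  have hr : Set.range a.left ⊆ Set.range (Sigma.ι (fun _ : Z => S) m) := by
    rintro _ ⟨t, rfl⟩
    obtain ⟨x, hx⟩ := exists_ι (a.left t)
    rw [h t] at hx
    exact ⟨x, hx⟩
  have hl := IsOpenImmersion.lift_fac (Sigma.ι (fun _ : Z => S) m) a.left hr
  have h3 : Sigma.ι (fun _ : Z => S) m ≫ (TwC.const S Z).hom = 𝟙 S := Sigma.ι_desc _ _
  have h2 : IsOpenImmersion.lift (Sigma.ι (fun _ : Z => S) m) a.left hr = T.hom := by
    rw [← Category.comp_id (IsOpenImmersion.lift (Sigma.ι (fun _ : Z => S) m) a.left hr), ← h3,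
      ← Category.assoc, hl]
    exact Over.w a
  apply Over.OverMorphism.ext
  rw [← hl, h2]
  rfl

theorem one_eq_pt [Group Z] {G : Over S} [GrpObj G] (e : G ≅ TwC.const S Z) (hG : TwC.IsConstGrp Z G e) :
    η[G] = TwC.pt S Z 1 ≫ e.inv := by
  have h := hG 1 1
  rw [_root_.one_mul] at h
  have h' : TwC.pt S Z 1 ≫ e.inv = 1 := mul_eq_left.mp h
  rw [h', Hom.one_def, toUnit_unique (toUnit _) (𝟙 _), Category.id_comp]

theorem eq_one_of_idx [Group Z] {G : Over S} [GrpObj G] (e : G ≅ TwC.const S Z) (hG : TwC.IsConstGrp Z G e)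
    {T : Over S} (c : T ⟶ G) (h : ∀ t, idx S Z ((c ≫ e.hom).left t) = 1) : c = 1 := by
  rw [← cancel_mono e.hom, eq_toUnit_pt (c ≫ e.hom) 1 h, Hom.one_def, one_eq_pt e hG]
  simp

theorem etale_const [Group Z] {G : Over S} (e : G ≅ TwC.const S Z) : Etale G.hom := by
  haveI : Etale (TwC.const S Z).hom :=
    IsZariskiLocalAtSource.sigmaDesc (P := @Etale) fun _ => inferInstanceAs (Etale (𝟙 S))
  rw [← Over.w e.hom]
  haveI : IsIso e.hom.left := inferInstanceAs (IsIso ((Over.forget S).map e.hom))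
  infer_instance

end Groth.Agent.ExtDesc
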